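import Groth.Agent.Lib.Curvette32.Construct
import Groth.Agent.Lib.RelMin32.Basic
import Groth.Agent.Lib.PointBlowUp32.Seq
import Groth.Agent.Lib.PicLift19.Top
import Groth.Agent.S7624
import Groth.Prelude.Def_ModelsG
import Groth.Prelude.Def_Neron

/-!
# Horizontal divisors through a closed point of a fibred surface
-/

set_option autoImplicit false
set_option linter.style.haveILetI false
set_option backward.isDefEq.respectTransparency false

universe u

open CategoryTheory CategoryTheory.Limits AlgebraicGeometry TopologicalSpace IsLocalRing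

namespace Groth.Agent.HorizPt

theorem eq_of_specializes {T : Type u} [TopologicalSpace T] [T0Space T] (h : topologicalKrullDim T ≤ 0) {a b : T}
    (hab : a ⤳ b) : a = b := by
  by_contra hne
  let K : T → IrreducibleCloseds T := fun z =>
    ⟨closure {z}, isIrreducible_singleton.closure, isClosed_closure⟩
  have hlt : K b < K a := by
    refine lt_of_le_of_ne (specializes_iff_closure_subset.mp hab) fun he => hne ?_
    have he' : closure ({b} : Set T) = closure {a} := congrArg (fun Z : IrreducibleCloseds T => (Z : Set T)) he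
    exact (hab.antisymm (specializes_iff_closure_subset.mpr he'.ge)).eq
  let s : LTSeries (IrreducibleCloseds T) :=
    { length := 1
      toFun := ![K b, K a]
      step := fun i => by fin_cases i; exact hlt }
  have h1 := (Order.LTSeries.length_le_krullDim s).trans h
  exact absurd h1 (by simp [s])

variable {R : Type u} [CommRing R] [IsDomain R] [IsDiscreteValuationRing R]
  {X : Scheme.{u}} [IsIntegral X] (p : X ⟶ Spec (CommRingCat.of R)) [IsProper p] [Flat p]

theorem surjective_of_flat : Surjective p := by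
  obtain ⟨x₀⟩ := (inferInstance : Nonempty X)
  let γ : Spec (CommRingCat.of R) := (⟨⊥, Ideal.isPrime_bot⟩ : PrimeSpectrum R)
  have hγ : ∀ s : Spec (CommRingCat.of R), γ ⤳ s := fun s => (PrimeSpectrum.le_iff_specializes γ s).1 bot_le
  obtain ⟨y, -, hy⟩ := Flat.generalizingMap p (hγ (p x₀))
  exact ⟨fun s => (hγ s).mem_closed p.isClosedMap.isClosed_range ⟨y, hy⟩⟩

/-- A closed point of the closed fibre of a fibred surface is not a component of that fibre. -/
theorem exists_generization (hdim : topologicalKrullDim X = 2) {x : X} (hxcl : IsClosed ({x} : Set X))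
    (hxs : p x = closedPoint R) : ∃ y : X, p y = closedPoint R ∧ y ⤳ x ∧ y ≠ x := by
  by_contra hno
  push Not at hno
  haveI := surjective_of_flat p
  let c : Spec (CommRingCat.of R) := closedPoint R
  let γ : Spec (CommRingCat.of R) := (⟨⊥, Ideal.isPrime_bot⟩ : PrimeSpectrum R)
  let x' : p.fiber c := (p.fiberHomeo c).symm ⟨x, hxs⟩
  have hx' : p.fiberι c x' = x := p.fiberι_fiberHomeo_symm c _
  let Z : Set (p.fiber c) := irreducibleComponent x'
  have hZ : Z ∈ irreducibleComponents (p.fiber c) := irreducibleComponent_mem_irreducibleComponents _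
  have hZ1 : ∀ z ∈ Z, z = x' := by
    intro z hz
    have hg := hZ.1.isGenericPoint_genericPoint (isClosed_of_mem_irreducibleComponents Z hZ)
    have h := (hg.specializes (mem_irreducibleComponent (x := x'))).map (p.fiberι c).continuous
    rw [hx'] at h
    have h3 := (hg.specializes hz).map (p.fiberι c).continuous
    rw [hno _ ((p.range_fiberι c).le ⟨_, rfl⟩) h] at h3
    exact (p.fiberι c).isEmbedding.injective ((h3.mem_closed hxcl rfl : _ = x).trans hx'.symm)
  have hZ0 : topologicalKrullDim Z ≤ 0 := by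
    haveI : Subsingleton (IrreducibleCloseds Z) := ⟨fun A B => IrreducibleCloseds.ext (by
      obtain ⟨a, ha⟩ := A.isIrreducible'.nonempty
      obtain ⟨b, hb⟩ := B.isIrreducible'.nonempty
      haveI : Subsingleton Z := ⟨fun v w => Subtype.ext ((hZ1 _ v.2).trans (hZ1 _ w.2).symm)⟩
      ext w
      exact ⟨fun _ => Subsingleton.elim b w ▸ hb, fun _ => Subsingleton.elim a w ▸ ha⟩)⟩
    exact Order.krullDim_nonpos_of_subsingleton
  have hγ0 : topologicalKrullDim ↥(p.fiber γ) ≤ 0 := by rwa [← Groth.Agent.S7624.result R X p Z hZ]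
  have hc0 : ∀ a b : p.fiber c, a ⤳ b → a = b := fun a b hab => by
    have hW := irreducibleComponent_mem_irreducibleComponents a
    have hb : b ∈ irreducibleComponent a := hab.mem_closed isClosed_irreducibleComponent mem_irreducibleComponent
    have h0 : topologicalKrullDim ↥(irreducibleComponent a) ≤ 0 := by
      rw [Groth.Agent.S7624.result R X p _ hW]; exact hγ0
    exact congrArg Subtype.val (eq_of_specializes h0 (a := ⟨a, mem_irreducibleComponent⟩) (b := ⟨b, hb⟩)
      ((subtype_specializes_iff _ _).2 hab))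
  have hall : ∀ a b : X, a ⤳ b → p a = p b → a = b := fun a b hab he => by
    have hpt : p a = c ∨ p a = γ := by
      rcases eq_or_ne (PrimeSpectrum.asIdeal (p a)) ⊥ with h | h
      · exact Or.inr (PrimeSpectrum.ext h)
      · exact Or.inl (PrimeSpectrum.ext
          (eq_maximalIdeal ((PrimeSpectrum.isPrime (p a)).isMaximal h)))
    have key : ∀ s, p a = s → (∀ v w : p.fiber s, v ⤳ w → v = w) → a = b := fun s hs hs' => by
      let v := (p.fiberHomeo s).symm ⟨a, hs⟩
      let w := (p.fiberHomeo s).symm ⟨b, he.symm.trans hs⟩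
      have hv : p.fiberι s v = a := p.fiberι_fiberHomeo_symm s _
      have hw : p.fiberι s w = b := p.fiberι_fiberHomeo_symm s _
      rw [← hv, ← hw, hs' v w ((p.fiberι s).isEmbedding.isInducing.specializes_iff.1 (by rw [hv, hw]; exact hab))]
    rcases hpt with h | h
    · exact key c h hc0
    · exact key γ h fun v w hvw => eq_of_specializes hγ0 hvw
  have hle : topologicalKrullDim X ≤ 1 := by
    refine iSup_le fun s => ?_
    rcases le_or_gt s.length 1 with hs | hs
    · exact_mod_cast hs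
    exfalso
    have hlt : ∀ i j : Fin (s.length + 1), i < j → (s j).isIrreducible'.genericPoint ⤳ (s i).isIrreducible'.genericPoint ∧
        (s j).isIrreducible'.genericPoint ≠ (s i).isIrreducible'.genericPoint := fun i j hij => by
      have hi := (s i).isIrreducible'.isGenericPoint_genericPoint (s i).isClosed'
      have hj := (s j).isIrreducible'.isGenericPoint_genericPoint (s j).isClosed'
      have hlt := s.strictMono hij
      refine ⟨hj.specializes (hlt.le hi.mem), fun he => hlt.ne ?_⟩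
      refine IrreducibleCloseds.ext (hi.def.symm.trans ?_)
      rw [← he]
      exact hj.def
    obtain ⟨h2, n2⟩ := hlt ⟨1, by omega⟩ ⟨2, by omega⟩ (by simp [Fin.lt_def])
    obtain ⟨h3, n3⟩ := hlt ⟨0, by omega⟩ ⟨1, by omega⟩ (by simp [Fin.lt_def])
    have hm1 : p _ ≠ p _ := fun e => n2 (hall _ _ h2 e)
    have hm2 : p _ ≠ p _ := fun e => n3 (hall _ _ h3 e)
    have hmax : ∀ {a b : Spec (CommRingCat.of R)}, a ⤳ b → a ≠ b →
        (PrimeSpectrum.asIdeal a) = ⊥ ∧ PrimeSpectrum.asIdeal b ≠ ⊥ := fun {a b} hab hne => by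
      have hle := (PrimeSpectrum.le_iff_specializes a b).2 hab
      by_cases ha : PrimeSpectrum.asIdeal a = ⊥
      · exact ⟨ha, fun hb => hne (PrimeSpectrum.ext (ha.trans hb.symm))⟩
      · exact absurd (PrimeSpectrum.ext (((PrimeSpectrum.isPrime a).isMaximal ha).eq_of_le
          (PrimeSpectrum.isPrime b).ne_top hle)) hne
    exact (hmax (h2.map p.continuous) hm1).2 (hmax (h3.map p.continuous) hm2).1
  rw [hdim] at hle
  exact absurd hle (by decide)

/-- A closed point of the closed fibre lies on an effective horizontal divisor meeting the fibre only there. -/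
theorem exists_divisor [HenselianLocalRing R] (hdim : topologicalKrullDim X = 2) {x : X}
    (hxcl : IsClosed ({x} : Set X)) (hxs : p x = closedPoint R) :
    ∃ (D : Scheme.{u}) (d : D ⟶ X), IsClosedImmersion d ∧ BlowUp.IsEffCartierIdeal d.ker ∧
      (∀ w : D, ∃ q : D, q ⤳ w ∧ PrimeSpectrum.asIdeal (p (d q)) = ⊥) ∧
      Set.range d ∩ p ⁻¹' {closedPoint R} = {x} := by
  classical
  haveI : IsLocallyNoetherian X := LocallyOfFiniteType.isLocallyNoetherian p
  haveI : CompactSpace X := QuasiCompact.compactSpace_of_compactSpace p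
  haveI : IsNoetherian X := {}
  have hnc := RelMin.noChain_of_dim hdim.le
  let F : Set X := p ⁻¹' {closedPoint R}
  have hF : IsClosed F := (isClosed_singleton_closedPoint R).preimage p.continuous
  obtain ⟨y₁, hy₁F, hy₁x, hy₁ne⟩ := exists_generization p hdim hxcl hxs
  have hgen : ∀ w ∈ F, genericPoint X ≠ w := fun w hw he => by
    obtain ⟨v, hv⟩ := (surjective_of_flat p).surj ((⟨⊥, Ideal.isPrime_bot⟩ : PrimeSpectrum R) : Spec (CommRingCat.of R))
    have h := (genericPoint_specializes v).map p.continuous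
    rw [he, hv, show p w = closedPoint R from hw] at h
    exact IsDiscreteValuationRing.not_a_field R
      (congrArg PrimeSpectrum.asIdeal (Set.mem_singleton_iff.1 (h.mem_closed (isClosed_singleton_closedPoint R) rfl))).symm
  obtain ⟨S, hS, hSc, hSi, hSF⟩ := NoetherianSpace.exists_finite_set_isClosed_irreducible hF
  choose g hg using fun Z : S => QuasiSober.sober (hSi _ Z.2) (hSc _ Z.2)
  have hcov : ∀ w ∈ F, ∃ Z : S, g Z ⤳ w := fun w hw => by
    rw [hSF] at hw
    obtain ⟨Z, hZ, hwZ⟩ := hw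
    exact ⟨⟨Z, hZ⟩, (hg ⟨Z, hZ⟩).specializes hwZ⟩
  have hgF : ∀ Z : S, g Z ∈ F := fun Z => by
    rw [hSF]
    exact ⟨Z.1, Z.2, (hg Z).mem⟩
  obtain ⟨U, hU, hxU, -⟩ := exists_isAffineOpen_mem_and_subset (X := X) (x := x) (U := ⊤) trivial
  haveI : Finite S := hS.to_subtype
  let T : Finset X := ((Set.toFinite (Set.range g)).toFinset).filter fun η => η ∈ U ∧ η ≠ x
  have hTmem : ∀ η, η ∈ T ↔ (∃ Z, g Z = η) ∧ η ∈ U ∧ η ≠ x := fun η => by simp [T]
  let P : X → Ideal Γ(X, U) := fun η => if h : η ∈ U then (hU.primeIdealOf ⟨η, h⟩).asIdeal else ⊥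
  have hP : ∀ (η : X) (h : η ∈ U), P η = (hU.primeIdealOf ⟨η, h⟩).asIdeal := fun η h => dif_pos h
  have hmemP : ∀ (η : X) (h : η ∈ U) (a : Γ(X, U)), a ∈ P η ↔ η ∉ X.basicOpen a := fun η h a => by
    rw [hP η h, ← not_iff_not, not_not]
    have := (hU.fromSpec_preimage_basicOpen a)
    constructor
    · intro ha
      have h1 : hU.primeIdealOf ⟨η, h⟩ ∈ hU.fromSpec ⁻¹ᵁ X.basicOpen a := by rw [this]; exact ha
      have h2 : hU.fromSpec (hU.primeIdealOf ⟨η, h⟩) ∈ X.basicOpen a := h1
      rwa [hU.fromSpec_primeIdealOf] at h2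
    · intro ha
      have h1 : hU.primeIdealOf ⟨η, h⟩ ∈ hU.fromSpec ⁻¹ᵁ X.basicOpen a := by
        show hU.fromSpec (hU.primeIdealOf ⟨η, h⟩) ∈ X.basicOpen a
        rwa [hU.fromSpec_primeIdealOf]
      rw [this] at h1
      exact h1
  obtain ⟨τ, hτx, hτT⟩ : ∃ τ, τ ∈ P x ∧ ∀ η ∈ T, τ ∉ P η := by
    by_contra hcon
    push Not at hcon
    have hsub : (P x : Set Γ(X, U)) ⊆ ⋃ η ∈ (↑T : Set X), (P η : Set Γ(X, U)) := fun a ha => by
      obtain ⟨η, hη, ha'⟩ := hcon a ha
      exact Set.mem_iUnion₂.2 ⟨η, hη, ha'⟩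
    obtain ⟨η, hη, hle⟩ := (Ideal.subset_union_prime x x fun η hη _ _ => by
      rw [hP η ((hTmem η).1 hη).2.1]; exact PrimeSpectrum.isPrime _).1 hsub
    obtain ⟨hηU, hηne⟩ := ((hTmem η).1 hη).2
    rw [hP x hxU, hP η hηU] at hle
    have h1 := ((PrimeSpectrum.le_iff_specializes (hU.primeIdealOf ⟨x, hxU⟩) (hU.primeIdealOf ⟨η, hηU⟩)).1 hle).map
      hU.fromSpec.continuous
    rw [hU.fromSpec_primeIdealOf, hU.fromSpec_primeIdealOf] at h1
    exact hηne (h1.mem_closed hxcl rfl)
  rw [hmemP x hxU] at hτx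
  obtain ⟨Z₁, hZ₁⟩ := hcov y₁ hy₁F
  have hη₁ : g Z₁ ∈ T := (hTmem _).2 ⟨⟨Z₁, rfl⟩, (hZ₁.trans hy₁x).mem_open U.2 hxU, fun he => hy₁ne
    ((he ▸ hZ₁ : x ⤳ y₁).mem_closed hxcl rfl)⟩
  have hτ0 : τ ≠ 0 := fun h => hτT _ hη₁ (h ▸ zero_mem _)
  -- the other zeros in the closed fibre
  let B : Set X := {w | w ∈ U ∧ w ∈ F ∧ w ∉ X.basicOpen τ ∧ w ≠ x}
  have hBcl : ∀ w, w ∈ U → w ∈ F → w ∉ X.basicOpen τ → ∀ v, w ⤳ v → v = w := fun w hwU hwF hwτ v hwv => by
    by_contra hne
    obtain ⟨Z, hZ⟩ := hcov w hwF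
    by_cases hgx : g Z = x
    · have hwx : w = x := (hgx ▸ hZ : x ⤳ w).mem_closed hxcl rfl
      exact hne ((hwx ▸ hwv : x ⤳ v).mem_closed hxcl rfl |>.trans hwx.symm)
    · have hgU : g Z ∈ U := hZ.mem_open U.2 hwU
      have hτg := hτT _ ((hTmem _).2 ⟨⟨Z, rfl⟩, hgU, hgx⟩)
      rw [hmemP _ hgU, not_not] at hτg
      exact hnc (genericPoint X) (g Z) w v (genericPoint_specializes _) hZ hwv (hgen _ (hgF Z))
        (fun e => hwτ (e ▸ hτg)) (fun e => hne e.symm)
  have hfin : {w : (U : Scheme.{u}) | U.ι w ∈ F ∧ U.ι w ∉ X.basicOpen τ}.Finite := by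
    haveI : CompactSpace (U : Scheme.{u}) := isCompact_iff_compactSpace.1 hU.isCompact
    haveI : IsNoetherian (U : Scheme.{u}) := {}
    refine PicLift19.finite_of_closed_points ((hF.inter (X.basicOpen τ).isOpen.isClosed_compl).preimage U.ι.continuous)
      fun w hw => isClosed_of_closure_subset fun v hv => ?_
    exact U.ι.isEmbedding.injective (hBcl (U.ι w) w.2 hw.1 hw.2 _
      ((specializes_iff_mem_closure.2 hv).map U.ι.continuous))
  have hBf : B.Finite := (hfin.image U.ι).subset fun w hw => ⟨⟨w, hw.1⟩, ⟨hw.2.1, hw.2.2.1⟩, rfl⟩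
  obtain ⟨U', hU', hxU', hU'le⟩ := exists_isAffineOpen_mem_and_subset (X := X) (x := x)
    (U := U ⊓ ⟨(⋃ w ∈ B, closure {w})ᶜ, (hBf.isClosed_biUnion fun _ _ => isClosed_closure).isOpen_compl⟩)
    ⟨hxU, fun hx => by
      obtain ⟨w, hw, hwx⟩ := Set.mem_iUnion₂.1 hx
      exact hw.2.2.2 (hBcl w hw.1 hw.2.1 hw.2.2.1 x (specializes_iff_mem_closure.2 hwx)).symm⟩
  have hle : U' ≤ U := hU'le.trans inf_le_left
  haveI : Nonempty U' := ⟨⟨x, hxU'⟩⟩
  obtain ⟨D, d, hd, hEC, hDF, -, -⟩ := Curvette.exists_horizontal p hU' (X.presheaf.map (homOfLE hle).op τ) hxU' hxs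
    (fun h => hτx ((X.basicOpen_res τ (homOfLE hle).op).le h).2)
    (fun h => hτ0 (map_injective_of_isIntegral X (homOfLE hle) (h.trans (map_zero _).symm)))
    (fun y hyU' hys hyτ => by
      by_contra hne
      exact (hU'le hyU').2 (Set.mem_iUnion₂.2 ⟨y, ⟨hle hyU', hys, fun h => hyτ
        ((X.basicOpen_res τ (homOfLE hle).op).ge ⟨hyU', h⟩), hne⟩, subset_closure rfl⟩))
  refine ⟨D, d, hd, hEC, fun w => ?_, hDF⟩
  haveI := hd
  -- a point on the generic fibre above each point of the divisor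
  have hcl : ∀ z : X, z ∈ Set.range d → p z ≠ closedPoint R → PrimeSpectrum.asIdeal (p z) = ⊥ := fun z _ hz => by
    by_contra h
    exact hz (PrimeSpectrum.ext (eq_maximalIdeal ((PrimeSpectrum.isPrime (p z)).isMaximal h)))
  by_cases hw : p (d w) = closedPoint R
  · have hwx : d w = x := hDF.le ⟨⟨w, rfl⟩, hw⟩
    obtain ⟨V, hxV, e, he, hI⟩ := hEC x
    haveI : Nonempty V.1 := ⟨⟨x, hxV⟩⟩
    let px := V.2.primeIdealOf ⟨x, hxV⟩
    have hsupp : ∀ (z : X) (hz : z ∈ V.1), z ∈ Set.range d ↔ e ∈ (V.2.primeIdealOf ⟨z, hz⟩).asIdeal := by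
      intro z hz
      rw [← d.isClosedEmbedding.isClosed_range.closure_eq, ← Scheme.Hom.support_ker, SetLike.mem_coe,
        Scheme.IdealSheafData.mem_support_iff_of_mem hz, hI, Scheme.zeroLocus_span, Scheme.mem_zeroLocus_iff]
      simp only [Set.mem_singleton_iff, forall_eq]
      have := (V.2.fromSpec_preimage_basicOpen e)
      constructor
      · intro h
        by_contra h1
        refine h ?_
        have h2 : V.2.primeIdealOf ⟨z, hz⟩ ∈ V.2.fromSpec ⁻¹ᵁ X.basicOpen e := by rw [this]; exact h1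
        have h3 : V.2.fromSpec (V.2.primeIdealOf ⟨z, hz⟩) ∈ X.basicOpen e := h2
        rwa [V.2.fromSpec_primeIdealOf] at h3
      · intro h h1
        have h2 : V.2.primeIdealOf ⟨z, hz⟩ ∈ V.2.fromSpec ⁻¹ᵁ X.basicOpen e := by
          show V.2.fromSpec (V.2.primeIdealOf ⟨z, hz⟩) ∈ X.basicOpen e
          rwa [V.2.fromSpec_primeIdealOf]
        rw [this] at h2
        exact h2 h
    have hex : e ∈ px.asIdeal := (hsupp x hxV).1 (hwx ▸ ⟨w, rfl⟩)
    haveI := px.isPrime
    obtain ⟨Q, hQ, hQx⟩ := Ideal.exists_minimalPrimes_le (J := px.asIdeal) (I := Ideal.span {e})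
      ((Ideal.span_singleton_le_iff_mem _).2 hex)
    haveI : IsNoetherianRing Γ(X, V.1) := IsLocallyNoetherian.component_noetherian V
    haveI := hQ.1.1
    have hQne : Q ≠ px.asIdeal := fun he' => by
      have h1 : Q.height ≤ 1 := Ideal.height_le_one_of_isPrincipal_of_mem_minimalPrimes _ _ hQ
      letI := TopCat.Presheaf.algebra_section_stalk X.presheaf (⟨x, hxV⟩ : V.1)
      haveI : IsLocalization.AtPrime (X.presheaf.stalk x) px.asIdeal := V.2.isLocalization_stalk ⟨x, hxV⟩
      have h2 := PointBlowUp.two_le_ringKrullDim_stalk (genericPoint_specializes y₁) hy₁x (hgen _ hy₁F) hy₁ne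
      rw [IsLocalization.AtPrime.ringKrullDim_eq_height px.asIdeal (X.presheaf.stalk x)] at h2
      rw [he'] at h1
      exact absurd (h2.trans (WithBot.coe_le_coe.2 h1)) (by decide)
    let q' : PrimeSpectrum Γ(X, V.1) := ⟨Q, hQ.1.1⟩
    let q := V.2.fromSpec q'
    have hqV : q ∈ V.1 := V.2.range_fromSpec.le ⟨q', rfl⟩
    have hqeq : V.2.primeIdealOf ⟨q, hqV⟩ = q' :=
      V.2.fromSpec.isOpenEmbedding.injective (V.2.fromSpec_primeIdealOf ⟨q, hqV⟩)
    obtain ⟨w', hw'⟩ := (hsupp q hqV).2 (by rw [hqeq]; exact hQ.1.2 (Ideal.mem_span_singleton_self e))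
    have hqx : q ⤳ x := by
      have h1 := ((PrimeSpectrum.le_iff_specializes q' px).1 hQx).map V.2.fromSpec.continuous
      rwa [V.2.fromSpec_primeIdealOf] at h1
    have hqne : q ≠ x := fun he' => hQne (congrArg PrimeSpectrum.asIdeal
      (V.2.fromSpec.isOpenEmbedding.injective (he'.trans (V.2.fromSpec_primeIdealOf ⟨x, hxV⟩).symm)))
    refine ⟨w', d.isEmbedding.isInducing.specializes_iff.1 (by rw [hw', hwx]; exact hqx), hcl _ ⟨w', rfl⟩ fun h =>
      hqne ?_⟩
    rw [← hw']
    exact hDF.le ⟨⟨w', rfl⟩, h⟩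
  · exact ⟨w, specializes_rfl, hcl _ ⟨w, rfl⟩ hw⟩

end Groth.Agent.HorizPt
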